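import Groth.Agent.RelSpecLib.OfAffine
import Groth.Agent.DeRhamLib.BaseChange
import Groth.Agent.QCohLib.Exact
import Groth.Agent.ProjBundleLib.DegOne
import Groth.Agent.GrassShLib.Frame
import Groth.Prelude.Def_ExtPow2
import Mathlib.Algebra.TrivSqZeroExt.Basic

/-!
# Exterior powers of quasi-coherent modules exist

The exterior powers of the sections over affine opens are glued through the square-zero extensions of the
functions by them, which form a quasi-coherent algebra.
-/

set_option autoImplicit false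
set_option backward.isDefEq.respectTransparency false
set_option backward.defeqAttrib.useBackward true
set_option linter.style.haveILetI false

universe u

open CategoryTheory CategoryTheory.Limits AlgebraicGeometry TopologicalSpace Opposite
open exteriorPower TrivSqZeroExt

noncomputable section

namespace Groth.Agent.ExtPowLib

section Algebra

variable {R R' M M' : Type u} [CommRing R] [CommRing R'] [AddCommGroup M] [Module R M] [AddCommGroup M']
  [Module R' M'] {i : ℕ}

instance rightModule : Module Rᵐᵒᵖ ↥(⋀[R]^i M) :=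
  Module.compHom _ ((RingHom.id R).fromOpposite fun a b => mul_comm a b)

instance isCentralScalar : IsCentralScalar R ↥(⋀[R]^i M) := ⟨fun _ _ => rfl⟩

/-- Functions extended by an exterior power. -/
abbrev Ext (R M : Type u) [CommRing R] [AddCommGroup M] [Module R M] (i : ℕ) : Type u :=
  TrivSqZeroExt R ↥(⋀[R]^i M)

variable (φ : R →+* R') (g : M →+ M') (hg : ∀ r m, g (r • m) = φ r • g m) (i)

/-- The semilinear map of exterior powers. -/
def res : ↥(⋀[R]^i M) →+ ↥(⋀[R']^i M') :=
  letI : Algebra R R' := φ.toAlgebra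
  letI : Module R M' := Module.compHom M' φ
  haveI : IsScalarTower R R' M' := .of_algebraMap_smul fun _ _ => rfl
  (DeRhamLib.extMap R' ({ toFun := g, map_add' := map_add g, map_smul' := hg } : M →ₗ[R] M') i).toAddMonoidHom

theorem res_ιMulti (v : Fin i → M) : res i φ g hg (ιMulti R i v) = ιMulti R' i (g ∘ v) :=
  letI : Algebra R R' := φ.toAlgebra
  letI : Module R M' := Module.compHom M' φ
  haveI : IsScalarTower R R' M' := .of_algebraMap_smul fun _ _ => rfl
  DeRhamLib.extMap_ιMulti _ i v

theorem res_smul (r : R) (x : ↥(⋀[R]^i M)) : res i φ g hg (r • x) = φ r • res i φ g hg x := by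
  letI : Algebra R R' := φ.toAlgebra
  letI : Module R M' := Module.compHom M' φ
  haveI : IsScalarTower R R' M' := .of_algebraMap_smul fun _ _ => rfl
  let f : M →ₗ[R] M' := { toFun := g, map_add' := map_add g, map_smul' := hg }
  show DeRhamLib.extMap R' f i (r • x) = algebraMap R R' r • DeRhamLib.extMap R' f i x
  rw [map_smul, algebraMap_smul]

theorem induction_ιMulti {P : ↥(⋀[R]^i M) → Prop} (h0 : P 0) (hadd : ∀ a b, P a → P b → P (a + b))
    (hsmul : ∀ (r : R) v, P (r • ιMulti R i v)) (x : ↥(⋀[R]^i M)) : P x := by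
  suffices h : ∀ (r : R), P (r • x) by simpa using h 1
  have hx : x ∈ Submodule.span R (Set.range (ιMulti R i (M := M))) := by rw [ιMulti_span]; trivial
  induction hx using Submodule.span_induction with
  | mem y hy => obtain ⟨v, rfl⟩ := hy; exact fun r => hsmul r v
  | zero => exact fun r => by rw [smul_zero]; exact h0
  | add a b _ _ ha hb => exact fun r => by rw [smul_add]; exact hadd _ _ (ha r) (hb r)
  | smul c a _ ha => exact fun r => by rw [← mul_smul]; exact ha _

/-- The map of the extensions. -/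
def extRes : Ext R M i →+* Ext R' M' i where
  toFun x := inl (φ x.fst) + inr (res i φ g hg x.snd)
  map_one' := by ext <;> simp
  map_zero' := by ext <;> simp
  map_add' x y := by ext <;> simp [map_add]
  map_mul' x y := by
    ext
    · simp
    · simp [map_add, res_smul, op_smul_eq_smul]

theorem fst_extRes (x : Ext R M i) : (extRes i φ g hg x).fst = φ x.fst := by simp [extRes]

theorem snd_extRes (x : Ext R M i) : (extRes i φ g hg x).snd = res i φ g hg x.snd := by simp [extRes]

theorem extRes_inl (r : R) : extRes i φ g hg (inl r) = inl (φ r) := by ext <;> simp [extRes]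

theorem extRes_id (φ' : R →+* R) (hid : ∀ r, φ' r = r) (g' : M →+ M) (hg' : ∀ r m, g' (r • m) = φ' r • g' m)
    (hgid : ∀ m, g' m = m) : extRes i φ' g' hg' = RingHom.id (Ext R M i) := by
  refine RingHom.ext fun x => TrivSqZeroExt.ext (by simp [fst_extRes, hid]) ?_
  rw [snd_extRes, RingHom.id_apply]
  induction x.snd using induction_ιMulti with
  | h0 => simp
  | hadd a b ha hb => rw [map_add, ha, hb]
  | hsmul r v =>
    rw [res_smul, res_ιMulti, hid]
    congr 2
    exact funext fun k => hgid _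

theorem extRes_comp {R'' M'' : Type u} [CommRing R''] [AddCommGroup M''] [Module R'' M''] (φ' : R' →+* R'')
    (g' : M' →+ M'') (hg' : ∀ r m, g' (r • m) = φ' r • g' m) (φ'' : R →+* R'') (g'' : M →+ M'')
    (hg'' : ∀ r m, g'' (r • m) = φ'' r • g'' m) (hφ : ∀ r, φ' (φ r) = φ'' r) (hgg : ∀ m, g' (g m) = g'' m) :
    (extRes i φ' g' hg').comp (extRes i φ g hg) = extRes i φ'' g'' hg'' := by
  refine RingHom.ext fun x => TrivSqZeroExt.ext (by simp [fst_extRes, hφ]) ?_
  rw [RingHom.comp_apply, snd_extRes, snd_extRes, snd_extRes]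
  induction x.snd using induction_ιMulti with
  | h0 => simp
  | hadd a b ha hb => rw [map_add, map_add, ha, hb, map_add]
  | hsmul r v =>
    rw [res_smul, res_smul, res_smul, res_ιMulti, res_ιMulti, res_ιMulti, hφ]
    congr 2
    exact funext fun k => hgg _

theorem isLocalization_extRes (f : R) (hφ : letI := φ.toAlgebra; IsLocalization.Away f R')
    (hloc : letI := φ.toAlgebra; letI : Module R M' := Module.compHom M' φ;
      IsLocalizedModule (Submonoid.powers f)
        ({ toFun := g, map_add' := map_add g, map_smul' := hg } : M →ₗ[R] M')) :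
    letI := (extRes i φ g hg).toAlgebra
    IsLocalization.Away (inl f : Ext R M i) (Ext R' M' i) := by
  letI : Algebra R R' := φ.toAlgebra
  letI : Module R M' := Module.compHom M' φ
  haveI : IsScalarTower R R' M' := .of_algebraMap_smul fun _ _ => rfl
  haveI := hφ
  haveI := hloc
  let f₀ : M →ₗ[R] M' := { toFun := g, map_add' := map_add g, map_smul' := hg }
  have hb : IsBaseChange R' f₀ := (isLocalizedModule_iff_isBaseChange (Submonoid.powers f) R' f₀).1 hloc
  haveI hl : IsLocalizedModule (Submonoid.powers f) (DeRhamLib.extMap R' f₀ i) :=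
    (isLocalizedModule_iff_isBaseChange (Submonoid.powers f) R' _).2 (DeRhamLib.isBaseChange_extMap hb i)
  letI := (extRes i φ g hg).toAlgebra
  have hpow : ∀ n, ((inl f : Ext R M i) ^ n) = inl (f ^ n) := fun n => (map_pow (inlHom R ↥(⋀[R]^i M)) f n).symm
  refine ⟨?_, fun z => ?_, fun {x y} h => ?_⟩
  · rintro ⟨_, n, rfl⟩
    show IsUnit (extRes i φ g hg ((inl f : Ext R M i) ^ n))
    rw [hpow, extRes_inl, isUnit_inl_iff]
    exact IsLocalization.map_units R' (⟨f ^ n, n, rfl⟩ : Submonoid.powers f)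
  · obtain ⟨⟨a, ⟨_, n, rfl⟩⟩, ha⟩ := IsLocalization.surj (Submonoid.powers f) z.fst
    obtain ⟨⟨e, ⟨_, m, rfl⟩⟩, he⟩ := IsLocalizedModule.surj (Submonoid.powers f) (DeRhamLib.extMap R' f₀ i) z.snd
    change z.fst * φ (f ^ n) = φ a at ha
    change (f ^ m) • z.snd = res i φ g hg e at he
    rw [← algebraMap_smul R' (f ^ m) z.snd] at he
    change φ (f ^ m) • z.snd = res i φ g hg e at he
    refine ⟨⟨inl (f ^ m * a) + inr (f ^ n • e), ⟨_, n + m, rfl⟩⟩, ?_⟩
    show z * extRes i φ g hg ((inl f) ^ (n + m)) = extRes i φ g hg _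
    rw [hpow, extRes_inl]
    refine TrivSqZeroExt.ext ?_ ?_
    · simp only [fst_mul, fst_inl, fst_extRes, fst_add, fst_inr, add_zero, map_mul, ← ha, pow_add]
      ring
    · simp only [snd_mul, snd_inl, fst_inl, smul_zero, zero_add, snd_extRes, snd_add, snd_inl, snd_inr, res_smul,
        ← he, op_smul_eq_smul, ← mul_smul, pow_add, map_mul]
  · change extRes i φ g hg x = extRes i φ g hg y at h
    obtain ⟨⟨_, n, rfl⟩, hn⟩ := IsLocalization.exists_of_eq (M := Submonoid.powers f) (S := R')
      (show φ x.fst = φ y.fst by simpa [fst_extRes] using congrArg TrivSqZeroExt.fst h)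
    obtain ⟨⟨_, m, rfl⟩, hm⟩ := IsLocalizedModule.exists_of_eq (S := Submonoid.powers f)
      (f := DeRhamLib.extMap R' f₀ i) (show res i φ g hg x.snd = res i φ g hg y.snd by
        simpa [snd_extRes] using congrArg TrivSqZeroExt.snd h)
    change f ^ m • x.snd = f ^ m • y.snd at hm
    change f ^ n * x.fst = f ^ n * y.fst at hn
    refine ⟨⟨_, n + m, rfl⟩, ?_⟩
    show (inl f) ^ (n + m) * x = (inl f) ^ (n + m) * y
    rw [hpow]
    refine TrivSqZeroExt.ext ?_ ?_
    · simp only [fst_mul, fst_inl, pow_add, mul_right_comm _ (f ^ m), hn]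
    · simp only [snd_mul, fst_inl, snd_inl, smul_zero, add_zero, pow_add, mul_smul, hm]

end Algebra

variable {S : Scheme.{u}} (E : S.Modules) [Coh.IsQCoh E] (i : ℕ)

/-- The restriction of sections, additively. -/
abbrev resE {U V : S.Opens} (h : V ≤ U) : Γ(E, U) →+ Γ(E, V) := (E.presheaf.map (homOfLE h).op).hom

/-- The restriction of functions. -/
abbrev resO {U V : S.Opens} (h : V ≤ U) : Γ(S, U) →+* Γ(S, V) := (S.presheaf.map (homOfLE h).op).hom

/-- The restriction of extensions. -/
def resX {U V : S.Opens} (h : V ≤ U) : Ext Γ(S, U) Γ(E, U) i →+* Ext Γ(S, V) Γ(E, V) i :=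
  extRes i (resO h) (resE E h) fun r m => E.map_smul (homOfLE h) r m

/-- The extensions over the affine opens. -/
def extData : RelSpecLib.AffData S where
  F :=
    { obj := fun U => CommRingCat.of (Ext Γ(S, U.unop.1) Γ(E, U.unop.1) i)
      map := fun {U V} k => CommRingCat.ofHom (resX E i (Scheme.AffineZariskiSite.toOpens_mono k.unop.le))
      map_id := fun U => CommRingCat.hom_ext (extRes_id i _ (fun r => congr($(S.presheaf.map_id _) r)) _ _
        fun m => congr($(E.presheaf.map_id _) m))
      map_comp := fun {U V W} k l => CommRingCat.hom_ext (extRes_comp i _ _ _ _ _ _ _ _ _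
        (fun r => (congr($(S.presheaf.map_comp _ _) r)).symm) fun m => (congr($(E.presheaf.map_comp _ _) m)).symm).symm }
  α :=
    { app := fun U => show Γ(S, U.unop.1) ⟶ _ from
        CommRingCat.ofHom (TrivSqZeroExt.inlHom Γ(S, U.unop.1) ↥(⋀[Γ(S, U.unop.1)]^i Γ(E, U.unop.1)))
      naturality := fun U V k => CommRingCat.hom_ext (RingHom.ext fun r =>
        (extRes_inl i (resO (Scheme.AffineZariskiSite.toOpens_mono k.unop.le))
          (resE E (Scheme.AffineZariskiSite.toOpens_mono k.unop.le)) (fun r m => E.map_smul _ r m) r).symm) }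
  loc U f := by
    refine isLocalization_extRes i (resO (S.basicOpen_le f)) (resE E (S.basicOpen_le f))
      (fun r m => E.map_smul _ r m) f (U.2.isLocalization_basicOpen f) ?_
    letI : Algebra Γ(S, U.1) Γ(S, S.basicOpen f) := (resO (S.basicOpen_le f)).toAlgebra
    haveI : IsLocalization.Away f Γ(S, S.basicOpen f) := U.2.isLocalization_basicOpen f
    letI : Module Γ(S, U.1) Γ(E, S.basicOpen f) := Module.compHom _ (resO (S.basicOpen_le f))
    haveI : IsScalarTower Γ(S, U.1) Γ(S, S.basicOpen f) Γ(E, S.basicOpen f) :=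
      .of_algebraMap_smul fun _ _ => rfl
    have hE := QCohLib.locAt E U.2
    refine IsLocalizedModule.Away.mk_of_addCommGroup ?_ ?_ ?_
    · rw [Module.End.isUnit_iff]
      have hun : IsUnit (algebraMap Γ(S, U.1) Γ(S, S.basicOpen f) f) :=
        IsLocalization.Away.algebraMap_isUnit (S := Γ(S, S.basicOpen f)) f
      exact hun.unit.isUnit.smul_bijective (β := Γ(E, S.basicOpen f))
    · intro t
      obtain ⟨n, s, hs⟩ := hE.extend f t
      exact ⟨n, s, hs.symm⟩
    · intro s hs
      obtain ⟨n, hn⟩ := hE.kill f s hs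
      refine ⟨n, ?_⟩
      rw [CohBase.sc_apply] at hn
      refine Eq.trans ?_ hn
      rw [show (homOfLE (le_refl U.1)).op = 𝟙 (op U.1) from Subsingleton.elim _ _, S.presheaf.map_id]
      rfl

/-- The algebra of the extensions. -/
def extAlg : RelSpec.QCAlg S := (extData E i).alg

/-- The identification over an affine open. -/
abbrev extAff (U : S.AffineZariskiSite) : (extAlg E i).presheaf.obj (op U.1) ⟶ (extData E i).F.obj (op U) :=
  (extData E i).affIso.hom.app (op U)

theorem extAff_str (U : S.AffineZariskiSite) (r : Γ(S, U.1)) :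
    extAff E i U ((extAlg E i).str.app (op U.1) r) = inl r :=
  ConcreteCategory.congr_hom ((extData E i).str_aff U) r

theorem extAff_res {U V : S.AffineZariskiSite} (h : V ≤ U) (z : (extAlg E i).presheaf.obj (op U.1)) :
    extAff E i V ((extAlg E i).presheaf.map (homOfLE (Scheme.AffineZariskiSite.toOpens_mono h)).op z) =
      resX E i (Scheme.AffineZariskiSite.toOpens_mono h) (extAff E i U z) :=
  ConcreteCategory.congr_hom ((extData E i).affIso.hom.naturality (homOfLE h).op) z

theorem exists_proj : ∃ P : (extAlg E i).toModule ⟶ Coh.structureModule S,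
    ∀ (U : S.AffineZariskiSite) (z : (extAlg E i).presheaf.obj (op U.1)), P.app U.1 z = (extAff E i U z).fst := by
  let G := Scheme.AffineZariskiSite.toOpensFunctor S
  let e := Functor.IsCoverDense.restrictHomEquivHom (G := G) (K := Opens.grothendieckTopology S)
    (ℱ := (extAlg E i).toAb)
    (ℱ' := (⟨(Coh.structureModule S).presheaf, (Coh.structureModule S).isSheaf⟩ : TopCat.Sheaf Ab.{u} S.carrier))
  let α : G.op ⋙ (extAlg E i).toAb ⟶ G.op ⋙ (Coh.structureModule S).presheaf :=
    { app := fun U => AddCommGrpCat.ofHom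
        { toFun := fun z => (extAff E i U.unop z).fst
          map_zero' := by simp
          map_add' := fun a b => by
            erw [map_add, fst_add] }
      naturality := fun U V k => AddCommGrpCat.ext fun z => by
        show (extAff E i V.unop ((extAlg E i).presheaf.map _ z)).fst = _
        rw [show ((G.op.map k)) = (homOfLE (Scheme.AffineZariskiSite.toOpens_mono k.unop.le)).op from
          Subsingleton.elim _ _]
        refine (congrArg TrivSqZeroExt.fst (extAff_res E i k.unop.le z)).trans ?_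
        rw [resX, fst_extRes]
        rfl }
  let Fp := e α
  have happ : ∀ (U : S.AffineZariskiSite) (m : (extAlg E i).presheaf.obj (op U.1)),
      Fp.app (op U.1) m = (extAff E i U m).fst := fun U m =>
    ConcreteCategory.congr_hom (NatTrans.congr_app (e.symm_apply_apply α) (op U)) m
  have hlin : ∀ (W : S.Opens) (r : Γ(S, W)) (x : Γ((extAlg E i).toModule, W)),
      (Fp.app (op W) (r • x) : Γ(Coh.structureModule S, W)) = r • (Fp.app (op W) x : Γ(Coh.structureModule S, W)) := by
    intro W r x
    refine TopCat.Sheaf.eq_of_locally_eq'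
      (⟨(Coh.structureModule S).presheaf, (Coh.structureModule S).isSheaf⟩ : TopCat.Sheaf Ab.{u} S.carrier)
      (fun a : {U : S.Opens // IsAffineOpen U ∧ U ≤ W} => a.1) W (fun a => homOfLE a.2.2) (fun y hy => ?_) _ _
      fun a => ?_
    · obtain ⟨_, ⟨V, hV, rfl⟩, hyV, hVW⟩ := S.isBasis_affineOpens.exists_subset_of_mem_open hy W.2
      exact Opens.mem_iSup.2 ⟨⟨V, hV, hVW⟩, hyV⟩
    · have hn : ∀ z : Γ((extAlg E i).toModule, W),
          (Coh.structureModule S).presheaf.map (homOfLE a.2.2).op (Fp.app (op W) z) =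
            Fp.app (op a.1) ((extAlg E i).toModule.presheaf.map (homOfLE a.2.2).op z) := fun z =>
        (ConcreteCategory.congr_hom (Fp.naturality (homOfLE a.2.2).op) z).symm
      show (Coh.structureModule S).presheaf.map (homOfLE a.2.2).op (Fp.app (op W) (r • x)) =
        (Coh.structureModule S).presheaf.map (homOfLE a.2.2).op (r • (Fp.app (op W) x : Γ(Coh.structureModule S, W)))
      rw [hn, (extAlg E i).toModule.map_smul (homOfLE a.2.2), (Coh.structureModule S).map_smul (homOfLE a.2.2), hn,
        happ ⟨a.1, a.2.1⟩, happ ⟨a.1, a.2.1⟩]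
      erw [map_mul, extAff_str]
      simp
      rfl
  exact ⟨⟨PresheafOfModules.homMk Fp fun W r x => hlin W.unop r x⟩, happ⟩

/-- Exterior powers exist. -/
theorem exists_isExtPow : ∃ L : S.Modules, Coh.IsQCoh L ∧ ExtPow.IsExtPow i E L := by
  classical
  obtain ⟨P, hP⟩ := exists_proj E i
  haveI := ProjBundleLib.isQCoh_toModule (extAlg E i)
  let L := kernel P
  let ι : L ⟶ (extAlg E i).toModule := kernel.ι P
  have hq : Coh.IsQCoh L :=
    (QCohLib.isQCoh_image P inferInstance (InvExt.isQCoh_of_isInvertible ParaFLib.isInvertible_structureModule)).1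
  refine ⟨L, hq, ?_⟩
  let S₁ : ShortComplex S.Modules := ShortComplex.mk ι (cokernel.π ι) (cokernel.condition _)
  have hS₁ : S₁.ShortExact := ShortComplex.ShortExact.mk'
    (ShortComplex.exact_of_g_is_cokernel _ (cokernelIsCokernel _)) inferInstance inferInstance
  let ψ : ∀ U : S.affineOpens, Γ(L, U.1) →ₗ[Γ(S, U.1)] ↥(⋀[Γ(S, U.1)]^i Γ(E, U.1)) := fun U =>
    { toFun := fun z => (extAff E i ⟨U.1, U.2⟩ (ι.app U.1 z)).snd
      map_add' := fun a b => by erw [map_add, map_add, snd_add]
      map_smul' := fun r z => by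
        rw [Scheme.Modules.Hom.app_smul]
        erw [map_mul, extAff_str, snd_mul]
        simp }
  have hfst : ∀ (U : S.affineOpens) (z : Γ(L, U.1)), (extAff E i ⟨U.1, U.2⟩ (ι.app U.1 z)).fst = 0 := fun U z => by
    rw [← hP ⟨U.1, U.2⟩]
    exact congr($(kernel.condition P).app U.1 z)
  have hbij : ∀ U : S.affineOpens, Function.Bijective (ψ U) := fun U => by
    refine ⟨fun a b hab => ?_, fun e => ?_⟩
    · refine QCohLib.app_injective hS₁ U.1 ?_
      exact (ConcreteCategory.bijective_of_isIso (extAff E i ⟨U.1, U.2⟩)).1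
        (TrivSqZeroExt.ext ((hfst U a).trans (hfst U b).symm) hab)
    · obtain ⟨z, hz⟩ := (ConcreteCategory.bijective_of_isIso (extAff E i ⟨U.1, U.2⟩)).2 (inr e)
      obtain ⟨t, ht⟩ := QCohLib.kernel_app_exact P U.1 z (by rw [hP ⟨U.1, U.2⟩, hz, fst_inr])
      exact ⟨t, by show (extAff E i ⟨U.1, U.2⟩ (ι.app U.1 t)).snd = e; rw [ht, hz, snd_inr]⟩
  let φ := fun U => LinearEquiv.ofBijective (ψ U) (hbij U)
  -- the restriction to a basic open
  have hbasic : ∀ (U V : S.AffineZariskiSite) (h : V ≤ U) (e : Fin i → Γ(E, U.1)),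
      L.presheaf.map (homOfLE (Scheme.AffineZariskiSite.toOpens_mono h)).op
          ((φ ⟨U.1, U.2⟩).symm (ιMulti _ i e)) =
        (φ ⟨V.1, V.2⟩).symm (ιMulti _ i fun j => resE E (Scheme.AffineZariskiSite.toOpens_mono h) (e j)) := by
    intro U V h e
    rw [LinearEquiv.eq_symm_apply]
    show (extAff E i V (ι.app V.1 _)).snd = _
    rw [QCohLib.app_res]
    erw [extAff_res E i h]
    rw [resX, snd_extRes]
    show res i _ _ _ (ψ ⟨U.1, U.2⟩ ((φ ⟨U.1, U.2⟩).symm (ιMulti _ i e))) = _
    erw [(φ ⟨U.1, U.2⟩).apply_symm_apply]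
    exact res_ιMulti i _ _ _ e
  refine ⟨φ, fun U V h e => ?_⟩
  change L.presheaf.map (homOfLE h).op ((φ U).symm (ιMulti _ i e)) =
    (φ V).symm (ιMulti _ i fun j => resE E h (e j))
  refine TopCat.Sheaf.eq_of_locally_eq' (⟨L.presheaf, L.isSheaf⟩ : TopCat.Sheaf Ab.{u} S.carrier)
    (fun W : {W : S.AffineZariskiSite // W.1 ≤ V.1 ∧ W ≤ ⟨U.1, U.2⟩ ∧ W ≤ ⟨V.1, V.2⟩} => W.1.1) V.1
    (fun W => homOfLE W.2.1) (fun y hy => ?_) _ _ fun W => ?_
  · obtain ⟨r, r', hrr, hyr⟩ := exists_basicOpen_le_affine_inter U.2 V.2 y ⟨h hy, hy⟩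
    exact Opens.mem_iSup.2 ⟨⟨⟨S.basicOpen r, IsAffineOpen.basicOpen U.2 r⟩,
      le_of_eq_of_le hrr (S.basicOpen_le r'), ⟨r, rfl⟩, ⟨r', hrr.symm⟩⟩, hyr⟩
  · show L.presheaf.map (homOfLE W.2.1).op (L.presheaf.map (homOfLE h).op _) = L.presheaf.map (homOfLE W.2.1).op _
    rw [← ConcreteCategory.comp_apply, ← L.presheaf.map_comp]
    refine (hbasic ⟨U.1, U.2⟩ W.1 W.2.2.1 e).trans (Eq.trans ?_ (hbasic ⟨V.1, V.2⟩ W.1 W.2.2.2 _).symm)
    congr 2
    funext j
    exact (CohBase.restr_trans E h W.2.1 (e j)).symm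

theorem isFT_of_isExtPow (hE : CohB1.IsFT E) {L : S.Modules} [Coh.IsQCoh L] (hL : ExtPow.IsExtPow i E L) :
    ∀ {U : S.Opens}, IsAffineOpen U → Module.Finite Γ(S, U) Γ(L, U) := by
  intro U hU
  classical
  obtain ⟨φ, -⟩ := hL
  haveI := QCohLib.finite_sections E hE hU
  obtain ⟨n, s, hs⟩ := Module.Finite.exists_fin (R := Γ(S, U)) (M := Γ(E, U))
  haveI : Module.Finite Γ(S, U) ↥(⋀[Γ(S, U)]^i Γ(E, U)) :=
    ⟨⟨(Finset.univ : Finset (Fin i → Fin n)).image fun J => ιMulti Γ(S, U) i (s ∘ J), by
      rw [Finset.coe_image, Finset.coe_univ, Set.image_univ, eq_top_iff,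
        ← ιMulti_span_of_span Γ(S, U) i (M := Γ(E, U)) (s := Set.range s) hs, Submodule.span_le]
      rintro _ ⟨w, hw, rfl⟩
      choose J hJ using fun k => hw ⟨k, rfl⟩
      exact Submodule.subset_span ⟨J, congrArg (ιMulti Γ(S, U) i) (funext hJ)⟩⟩⟩
  exact Module.Finite.equiv (φ ⟨U, hU⟩).symm

end Groth.Agent.ExtPowLib
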