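import Groth.Agent.ExtPowLib.Exist
import Groth.Agent.ProjBundleLib.Exist

/-!
# An exterior power is unique and quasi-coherent
-/

set_option autoImplicit false
set_option backward.isDefEq.respectTransparency false
set_option linter.style.haveILetI false

universe u

open CategoryTheory CategoryTheory.Limits AlgebraicGeometry TopologicalSpace Opposite
open exteriorPower

noncomputable section

namespace Groth.Agent.ExtPowLib

variable {S : Scheme.{u}} {i : ℕ} {E L L' : S.Modules}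

set_option maxHeartbeats 1600000 in
theorem exists_hom_compat (h : ExtPow.IsExtPow i E L) (h' : ExtPow.IsExtPow i E L') :
    ∃ F : L ⟶ L', ∀ (U : S.Opens) (hU : IsAffineOpen U) (x : Γ(L, U)),
      F.app U x = (h'.choose ⟨U, hU⟩).symm (h.choose ⟨U, hU⟩ x) := by
  let φ := h.choose
  let φ' := h'.choose
  have hφ := h.choose_spec
  have hφ' := h'.choose_spec
  let f : ∀ U : S.AffineZariskiSite, Γ(L, U.1) →+ Γ(L', U.1) := fun U =>
    ((φ ⟨U.1, U.2⟩).trans (φ' ⟨U.1, U.2⟩).symm).toLinearMap.toAddMonoidHom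
  have key : ∀ (U : S.Opens) (hU : IsAffineOpen U) (r : Γ(S, U)) (z : ↥(⋀[Γ(S, U)]^i Γ(E, U))),
      φ ⟨S.basicOpen r, hU.basicOpen r⟩ (L.presheaf.map (homOfLE (S.basicOpen_le r)).op ((φ ⟨U, hU⟩).symm z)) =
        φ' ⟨S.basicOpen r, hU.basicOpen r⟩ (L'.presheaf.map (homOfLE (S.basicOpen_le r)).op ((φ' ⟨U, hU⟩).symm z)) := by
    intro U hU r
    let h := S.basicOpen_le r
    let V : S.affineOpens := ⟨S.basicOpen r, hU.basicOpen r⟩
    let U' : S.affineOpens := ⟨U, hU⟩
    let A : ↥(⋀[Γ(S, U)]^i Γ(E, U)) →+ ↥(⋀[Γ(S, S.basicOpen r)]^i Γ(E, S.basicOpen r)) :=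
      (φ V).toLinearMap.toAddMonoidHom.comp
        ((L.presheaf.map (homOfLE h).op).hom.comp (φ U').symm.toLinearMap.toAddMonoidHom)
    let B : ↥(⋀[Γ(S, U)]^i Γ(E, U)) →+ ↥(⋀[Γ(S, S.basicOpen r)]^i Γ(E, S.basicOpen r)) :=
      (φ' V).toLinearMap.toAddMonoidHom.comp
        ((L'.presheaf.map (homOfLE h).op).hom.comp (φ' U').symm.toLinearMap.toAddMonoidHom)
    have hA : ∀ (c : Γ(S, U)) z, A (c • z) = S.presheaf.map (homOfLE h).op c • A z := fun c z =>
      ((congrArg (fun w => φ V (L.presheaf.map (homOfLE h).op w)) ((φ U').symm.map_smul c z)).trans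
        (congrArg (φ V) (L.map_smul (homOfLE h) c _))).trans ((φ V).map_smul _ _)
    have hB : ∀ (c : Γ(S, U)) z, B (c • z) = S.presheaf.map (homOfLE h).op c • B z := fun c z =>
      ((congrArg (fun w => φ' V (L'.presheaf.map (homOfLE h).op w)) ((φ' U').symm.map_smul c z)).trans
        (congrArg (φ' V) (L'.map_smul (homOfLE h) c _))).trans ((φ' V).map_smul _ _)
    have hAB : ∀ v, A (ιMulti Γ(S, U) i v) = B (ιMulti Γ(S, U) i v) := fun v =>
      ((congrArg (φ V) (hφ U' V h v)).trans ((φ V).apply_symm_apply _)).trans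
        ((congrArg (φ' V) (hφ' U' V h v)).trans ((φ' V).apply_symm_apply _)).symm
    intro z
    show A z = B z
    refine induction_ιMulti i (P := fun z => A z = B z) ?_ ?_ ?_ z
    · rw [map_zero, map_zero]
    · intro a b ha hb
      rw [map_add, map_add, ha, hb]
    · intro c v
      rw [hA, hB, hAB]
  obtain ⟨F, hF⟩ := ProjBundleLib.exists_hom_of_affine f (fun U hU r x => by
      show L'.presheaf.map _ ((φ' ⟨U, hU⟩).symm (φ ⟨U, hU⟩ x)) =
        (φ' ⟨_, _⟩).symm (φ ⟨_, hU.basicOpen r⟩ (L.presheaf.map _ x))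
      refine (LinearEquiv.eq_symm_apply _).2 ((key U hU r (φ ⟨U, hU⟩ x)).symm.trans ?_)
      exact congrArg (fun z => φ ⟨_, hU.basicOpen r⟩ (L.presheaf.map (homOfLE (S.basicOpen_le r)).op z))
        ((φ ⟨U, hU⟩).symm_apply_apply x))
    (fun U a x => map_smul ((φ ⟨U.1, U.2⟩).trans (φ' ⟨U.1, U.2⟩).symm) a x)
  exact ⟨F, fun U hU x => hF U hU x⟩

theorem nonempty_iso (h : ExtPow.IsExtPow i E L) (h' : ExtPow.IsExtPow i E L') : Nonempty (L ≅ L') := by
  obtain ⟨a, ha⟩ := exists_hom_compat h h'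
  obtain ⟨b, hb⟩ := exists_hom_compat h' h
  refine ⟨⟨a, b, RelSpecLib.hom_ext_affine _ _ fun U hU x => ?_, RelSpecLib.hom_ext_affine _ _ fun U hU x => ?_⟩⟩
  · show b.app U (a.app U x) = x
    rw [ha U hU, hb U hU]
    simp
  · show a.app U (b.app U x) = x
    rw [hb U hU, ha U hU]
    simp

/-- An exterior power of a quasi-coherent module is quasi-coherent. -/
theorem isQCoh_of_isExtPow [Coh.IsQCoh E] (h : ExtPow.IsExtPow i E L) : Coh.IsQCoh L := by
  obtain ⟨L₀, hq, h₀⟩ := exists_isExtPow E i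
  obtain ⟨e⟩ := nonempty_iso h₀ h
  exact (SheafOfModules.isQuasicoherent.{u} S.ringCatSheaf).prop_of_iso e hq

end Groth.Agent.ExtPowLib
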